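import Cfsg.Agent.Lib.Golay.CodeSplit.Check
import Cfsg.Agent.Lib.Golay.Cocode.Nonsplit
import Cfsg.Agent.Lib.Gaschutz.Split
import Cfsg.Agent.Lib.Golay.MathieuFacts

/-!
An extension of the point stabiliser by its code module splits: the certified equations force the
tails of suitably normalised lifts of a Sylow 2-subgroup to vanish.
-/

set_option autoImplicit false
set_option linter.style.haveILetI false

namespace CfsgLib.Golay.CodeSplit

open Cfsg CfsgLib.Golay CfsgLib.Golay.SylowTwo
open scoped Pointwise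

attribute [local irreducible] idP toPerm mulP validP

/-! ### Facts about the data -/

theorem pcsOK : pcOK pcs pcc = true ∧ pcs.length = 7 := by
  have h := perms_ok
  simp only [permsOK, Bool.and_eq_true, beq_iff_eq] at h
  exact ⟨h.1.1, h.1.2⟩

theorem length_le : 7 ≤ perms.length := by
  rw [perms, List.length_append, pcsOK.2]; omega

theorem prm_ok {k : ℕ} (hk : k < perms.length) :
    validP (prm k) = true ∧ toPerm (prm k) ∈ Spor.M23 := by
  have h := perms_ok
  simp only [permsOK, Bool.and_eq_true, List.all_eq_true] at h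
  have hP : prm k ∈ perms := by
    rw [prm, List.getD_eq_getElem _ _ hk]; exact List.getElem_mem hk
  obtain ⟨h1, h2⟩ := h.2 _ hP
  refine ⟨?_, Cocode.toPerm_mem_M23 ⟨h1, beq_iff_eq.1 h2⟩⟩
  simp only [inM24, Bool.and_eq_true] at h1
  exact h1.1

theorem prm_pcs {k : ℕ} (hk : k < 7) : prm k = pcs.getD k idP := by
  rw [prm, perms, List.getD_append _ _ _ _ (by rw [pcsOK.2]; exact hk)]

theorem evP_ok : ∀ {w : List ℕ}, (∀ k ∈ w, k < perms.length) →
    validP (evP w) = true ∧ toPerm (evP w) = (w.map fun k => toPerm (prm k)).prod := by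
  intro w
  induction w with
  | nil => intro _; exact ⟨validP_idP, by simp [evP, toPerm_idP]⟩
  | cons k w ih =>
    intro h
    simp only [List.mem_cons, forall_eq_or_imp] at h
    obtain ⟨h1, h2⟩ := ih h.2
    refine ⟨validP_mulP (prm_ok h.1).1 h1, ?_⟩
    rw [evP, toPerm_mulP (prm_ok h.1).1 h1, h2, List.map_cons, List.prod_cons]

theorem relAt_mem {r : ℕ} (hr : r < rels.length) : relAt r ∈ rels := by
  rw [relAt, List.getD_eq_getElem _ _ hr]; exact List.getElem_mem hr

theorem rel_ok {r : ℕ} (hr : r < rels.length) :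
    ((∀ k ∈ (relAt r).1, k < perms.length) ∧ ∀ k ∈ (relAt r).2, k < perms.length) ∧
      eqP (evP (relAt r).1) (evP (relAt r).2) = true := by
  have h := rels_ok
  simp only [relsOK, List.all_eq_true, Bool.and_eq_true, decide_eq_true_eq] at h
  exact h _ (relAt_mem hr)

theorem rels_length : 28 ≤ rels.length := by
  have h := shape_ok
  simp only [shapeOK, Bool.and_eq_true, decide_eq_true_eq] at h
  exact h.1

theorem pivot_lt {i : ℕ} (hi : i < 11) : pivot i < 23 := by
  have h := basis_ok
  simp only [basisOK, Bool.and_eq_true, List.all_eq_true, decide_eq_true_eq] at h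
  exact (h.1.1 i (List.mem_range.2 hi)).1

/-! ### Exclusive or of lists -/

/-- linear combination of the values with bits below `V` -/
def comb2 (V : ℕ) (x : ℕ → ZMod 2) (X : ℕ) : ZMod 2 :=
  ∑ v ∈ Finset.range V, if X.testBit v then x v else 0

theorem zmod2_add_self : ∀ a : ZMod 2, a + a = 0 := by decide

theorem comb2_xor (V : ℕ) (x : ℕ → ZMod 2) (X Y : ℕ) :
    comb2 V x (X ^^^ Y) = comb2 V x X + comb2 V x Y := by
  rw [comb2, comb2, comb2, ← Finset.sum_add_distrib]
  refine Finset.sum_congr rfl fun v _ => ?_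
  rw [Nat.testBit_xor]
  cases X.testBit v <;> cases Y.testBit v <;> simp [zmod2_add_self]

theorem comb2_zero (V : ℕ) (x : ℕ → ZMod 2) : comb2 V x 0 = 0 := by simp [comb2]

theorem comb2_two_pow {V v : ℕ} (x : ℕ → ZMod 2) (hv : v < V) : comb2 V x (2 ^ v) = x v := by
  rw [comb2, Finset.sum_eq_single v]
  · simp
  · intro u _ hu
    rw [Nat.testBit_two_pow, decide_eq_false (Ne.symm hu)]
    simp
  · intro h; exact absurd (Finset.mem_range.2 hv) h

theorem comb2_xorL {α : Type} (V : ℕ) (x : ℕ → ZMod 2) (f : α → ℕ) :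
    ∀ l : List α, comb2 V x (xorL f l) = (l.map fun a => comb2 V x (f a)).sum := by
  intro l
  induction l with
  | nil => simp [xorL, comb2_zero]
  | cons a l ih => rw [xorL, comb2_xor, ih, List.map_cons, List.sum_cons]

theorem list_range_sum {M : Type} [AddCommMonoid M] (f : ℕ → M) :
    ∀ n : ℕ, ((List.range n).map f).sum = ∑ i ∈ Finset.range n, f i := by
  intro n
  induction n with
  | zero => simp
  | succ n ih => simp [List.range_succ, Finset.sum_range_succ, ih]

theorem comb2_selL (V : ℕ) (x : ℕ → ZMod 2) (l : List ℕ) (m : ℕ) :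
    comb2 V x (selL l m) = comb2 l.length (fun i => comb2 V x (l.getD i 0)) m := by
  rw [selL, comb2_xorL, list_range_sum, comb2]
  exact Finset.sum_congr rfl fun i _ => by split <;> simp [comb2_zero]

theorem wd_xorL {α : Type} (f : α → ℕ) :
    ∀ (l : List α) (p : GolayPt), wd (xorL f l) p = (l.map fun a => wd (f a) p).sum := by
  intro l p
  induction l with
  | nil => simp [xorL, wd_zero]
  | cons a l ih => rw [xorL, wd_xor, Pi.add_apply, ih, List.map_cons, List.sum_cons]

theorem wd_pt (m : ℕ) {k : ℕ} (hk : k < 24) :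
    wd m (pt k) = if m.testBit k then 1 else 0 := by
  rw [wd, idx_pt k hk]

/-! ### The module -/

/-- the words of the module -/
def InM (w : GolayPt → ZMod 2) : Prop := w ∈ golayCode ∧ w none = 0

theorem pt23 : pt 23 = (none : GolayPt) := rfl

theorem expand {w : GolayPt → ZMod 2} (hw : InM w) {k : ℕ} (hk : k < 24) :
    w (pt k) = ∑ j ∈ Finset.range 11,
      if (basisM.getD j 0).testBit k then w (pt (pivot j)) else 0 := by
  obtain ⟨m, -, hm, rfl⟩ := mem_golayCode.1 hw.1
  have h23 : m.testBit 23 = false := by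
    have h := hw.2
    rw [← pt23, wd_pt m (by norm_num)] at h
    by_contra hb
    rw [Bool.not_eq_false] at hb
    rw [if_pos hb] at h
    exact one_ne_zero h
  have hrec : xorL (fun j => if m.testBit (pivot j) then basisM.getD j 0 else 0) (List.range 11) =
      m := by
    have h := basis_ok
    simp only [basisOK, Bool.and_eq_true, List.all_eq_true] at h
    have h1 := h.2 m (inC_iff_mem_codeList.1 hm)
    simpa [h23] using h1
  conv_lhs => rw [← hrec]
  rw [wd_xorL, list_range_sum]
  refine Finset.sum_congr rfl fun j hj => ?_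
  have hp : pivot j < 24 := by have := pivot_lt (Finset.mem_range.1 hj); omega
  rw [wd_pt _ hk, wd_pt m hp]
  cases m.testBit (pivot j) <;> simp

theorem eq_zero_of_pivots {w : GolayPt → ZMod 2} (hw : InM w)
    (h : ∀ j < 11, w (pt (pivot j)) = 0) : w = 0 := by
  funext p
  rw [← pt_idx p, expand hw (idx_lt p)]
  exact Finset.sum_eq_zero fun j hj => by rw [h j (Finset.mem_range.1 hj)]; simp

theorem exists_pivots (c : ℕ → ZMod 2) :
    ∃ w : GolayPt → ZMod 2, InM w ∧ ∀ j < 11, w (pt (pivot j)) = c j := by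
  have hb := basis_ok
  simp only [basisOK, Bool.and_eq_true, List.all_eq_true, beq_iff_eq, Bool.not_eq_true'] at hb
  have hmem : ∀ j, InM (wd (basisM.getD j 0)) := by
    intro j
    by_cases hj : j < basisM.length
    · rw [List.getD_eq_getElem _ _ hj]
      obtain ⟨h1, h2⟩ := hb.1.2 _ (List.getElem_mem hj)
      refine ⟨wd_mem_of_inC h1, ?_⟩
      rw [← pt23, wd_pt _ (by norm_num), h2]
      simp
    · rw [List.getD_eq_default _ _ (not_lt.1 hj), wd_zero]
      exact ⟨Submodule.zero_mem _, rfl⟩
  refine ⟨∑ j ∈ Finset.range 11, c j • wd (basisM.getD j 0), ⟨?_, ?_⟩, fun i hi => ?_⟩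
  · exact Submodule.sum_mem _ fun j _ => Submodule.smul_mem _ _ (hmem j).1
  · rw [Finset.sum_apply]
    exact Finset.sum_eq_zero fun j _ => by rw [Pi.smul_apply, (hmem j).2, smul_zero]
  · have hp : pivot i < 24 := by have := pivot_lt hi; omega
    rw [Finset.sum_apply, Finset.sum_eq_single i]
    · rw [Pi.smul_apply, wd_pt _ hp, (hb.1.1 i (List.mem_range.2 hi)).2 i (List.mem_range.2 hi)]
      simp
    · intro j hj hne
      rw [Pi.smul_apply, wd_pt _ hp,
        (hb.1.1 i (List.mem_range.2 hi)).2 j (List.mem_range.2 (Finset.mem_range.1 hj))]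
      simp [Ne.symm hne]
    · intro h; exact absurd (Finset.mem_range.2 hi) h

theorem comb2_colS {w : GolayPt → ZMod 2} (hw : InM w) {V r k : ℕ} (x : ℕ → ZMod 2)
    (hV : 11 * r + 11 ≤ V) (hk : k < 24) (hx : ∀ j < 11, x (11 * r + j) = w (pt (pivot j))) :
    comb2 V x (colS k r) = w (pt k) := by
  rw [colS, comb2_xorL, list_range_sum, expand hw hk]
  refine Finset.sum_congr rfl fun j hj => ?_
  have hj' := Finset.mem_range.1 hj
  split
  · rw [comb2_two_pow x (by omega), hx j hj']
  · exact comb2_zero _ _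

/-! ### The extension -/

section Ext

variable {E : Type*} [Group E] (N : Subgroup E) [N.Normal] (φ : E ⧸ N ≃* ↥Spor.M23)
  (ψ : Additive ↥N →+ (GolayPt → ZMod 2))

/-- the permutation of an element -/
def sig : E →* Equiv.Perm GolayPt :=
  (Spor.M23).subtype.comp (φ.toMonoidHom.comp (QuotientGroup.mk' N))

open Classical in
/-- the word of an element of the kernel -/
noncomputable def val (x : E) : GolayPt → ZMod 2 :=
  if h : x ∈ N then ψ (Additive.ofMul ⟨x, h⟩) else 0

variable {N φ ψ}

theorem sig_eq_one {x : E} : sig N φ x = 1 ↔ x ∈ N := by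
  rw [← QuotientGroup.eq_one_iff x]
  constructor
  · intro h
    have h1 : φ (QuotientGroup.mk x) = 1 := Subtype.ext h
    exact (MulEquiv.map_eq_one_iff φ).1 h1
  · intro h
    show ((φ (QuotientGroup.mk x) : ↥Spor.M23) : Equiv.Perm GolayPt) = 1
    rw [h, map_one]; rfl

theorem val_mem {x : E} (h : x ∈ N) : val N ψ x = ψ (Additive.ofMul ⟨x, h⟩) := dif_pos h

theorem val_one : val N ψ 1 = 0 := by rw [val_mem N.one_mem]; exact map_zero ψ

theorem val_mul {x y : E} (hx : x ∈ N) (hy : y ∈ N) : val N ψ (x * y) = val N ψ x + val N ψ y := by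
  rw [val_mem (mul_mem hx hy), val_mem hx, val_mem hy, ← map_add]; rfl

theorem val_inv {x : E} (hx : x ∈ N) : val N ψ x⁻¹ = val N ψ x := by
  have h := val_mul (ψ := ψ) (inv_mem hx) hx
  rw [inv_mul_cancel, val_one] at h
  funext p
  have h1 := congrFun h p
  rw [Pi.add_apply, Pi.zero_apply] at h1
  revert h1; generalize val N ψ x⁻¹ p = a; generalize val N ψ x p = b
  revert a b; decide

/-- The hypotheses on the extension. -/
structure Hyp (N : Subgroup E) [N.Normal] (φ : E ⧸ N ≃* ↥Spor.M23)
    (ψ : Additive ↥N →+ (GolayPt → ZMod 2)) : Prop where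
  inj : Function.Injective ψ
  range : ∀ w : GolayPt → ZMod 2, w ∈ Set.range ψ ↔ (w ∈ golayCode ∧ w none = 0)
  conj : ∀ (g : E) (n : ↥N), ψ (Additive.ofMul ⟨g * n * g⁻¹, ‹N.Normal›.conj_mem n n.2 g⟩) =
    ψ (Additive.ofMul n) ∘ ⇑((sig N φ g)⁻¹)

variable (H : Hyp N φ ψ)

include H in
theorem val_inM {x : E} (hx : x ∈ N) : InM (val N ψ x) :=
  (H.range _).1 ⟨_, (val_mem hx).symm⟩

include H in
theorem val_eq_zero {x : E} (hx : x ∈ N) (h : val N ψ x = 0) : x = 1 := by
  rw [val_mem hx, ← map_zero ψ] at h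
  exact congrArg (fun n => ((Additive.toMul n : ↥N) : E)) (H.inj h)

include H in
theorem val_conj (g : E) {x : E} (hx : x ∈ N) (p : GolayPt) :
    val N ψ (g * x * g⁻¹) p = val N ψ x ((sig N φ g)⁻¹ p) := by
  rw [val_mem (‹N.Normal›.conj_mem x hx g), val_mem hx]
  exact congrFun (H.conj g ⟨x, hx⟩) p

include H in
theorem exists_val (c : ℕ → ZMod 2) :
    ∃ x ∈ N, ∀ j < 11, val N ψ x (pt (pivot j)) = c j := by
  obtain ⟨w, hw, hwc⟩ := exists_pivots c
  obtain ⟨n, hn⟩ := (H.range w).2 hw
  refine ⟨((Additive.toMul n : ↥N) : E), (Additive.toMul n : ↥N).2, fun j hj => ?_⟩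
  rw [val_mem (Additive.toMul n : ↥N).2, ← hwc j hj, ← hn]
  rfl

include H in
/-- Conjugation at a point with a known preimage. -/
theorem val_conj_at (g : E) {x : E} (hx : x ∈ N) {P q : ℕ} (hP : validP P = true)
    (hg : sig N φ g = toPerm P) (hq : q < 24) (hok : invOK P q = true) :
    val N ψ (g * x * g⁻¹) (pt q) = val N ψ x (pt (invAt P q)) := by
  simp only [invOK, Bool.and_eq_true, decide_eq_true_eq, beq_iff_eq] at hok
  rw [val_conj H g hx, hg]
  refine congrArg _ (Equiv.Perm.inv_eq_iff_eq.2 ?_)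
  rw [toPerm_apply hP, idx_pt _ hok.1, hok.2]

/-- the element of a word -/
def evE (e : ℕ → E) (w : List ℕ) : E := (w.map e).prod

/-- lifts of the permutations -/
def Lifts (φ : E ⧸ N ≃* ↥Spor.M23) (e : ℕ → E) : Prop :=
  ∀ k < perms.length, sig N φ (e k) = toPerm (prm k)

/-- the tail of a relation -/
def tail (e : ℕ → E) (r : ℕ) : E := evE e (relAt r).1 * (evE e (relAt r).2)⁻¹

/-- the coordinates of all tails -/
noncomputable def xs (N : Subgroup E) [N.Normal] (ψ : Additive ↥N →+ (GolayPt → ZMod 2))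
    (e : ℕ → E) (v : ℕ) : ZMod 2 := val N ψ (tail e (v / 11)) (pt (pivot (v % 11)))

theorem xs_at (e : ℕ → E) (r : ℕ) {j : ℕ} (hj : j < 11) :
    xs N ψ e (11 * r + j) = val N ψ (tail e r) (pt (pivot j)) := by
  rw [xs, show (11 * r + j) / 11 = r by omega, show (11 * r + j) % 11 = j by omega]

theorem sig_evE {e : ℕ → E} (he : Lifts φ e) {w : List ℕ} (hw : ∀ k ∈ w, k < perms.length) :
    sig N φ (evE e w) = toPerm (evP w) := by
  rw [(evP_ok hw).2, evE, map_list_prod, List.map_map]
  exact congrArg List.prod (List.map_congr_left fun k hk => he k (hw k hk))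

theorem tail_mem {e : ℕ → E} (he : Lifts φ e) {r : ℕ} (hr : r < rels.length) : tail e r ∈ N := by
  obtain ⟨⟨h1, h2⟩, h3⟩ := rel_ok hr
  rw [← sig_eq_one (φ := φ), tail, map_mul, map_inv, sig_evE he h1, sig_evE he h2,
    toPerm_eq_of_eqP (evP_ok h1).1 (evP_ok h2).1 h3, mul_inv_cancel]

/-- the value of a signed letter -/
def lval (e : ℕ → E) (x : ℕ × Bool) : E := if x.2 then (e x.1)⁻¹ else e x.1

/-- the value of a signed word -/
def sval (e : ℕ → E) (w : List (ℕ × Bool)) : E := (w.map (lval e)).prod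

theorem sval_append (e : ℕ → E) (v w : List (ℕ × Bool)) :
    sval e (v ++ w) = sval e v * sval e w := by simp [sval]

theorem sval_pos (e : ℕ → E) (w : List ℕ) : sval e (pos w) = evE e w := by
  simp [sval, pos, evE, lval, List.map_map, Function.comp_def]

theorem sval_invW (e : ℕ → E) (w : List (ℕ × Bool)) : sval e (invW w) = (sval e w)⁻¹ := by
  induction w with
  | nil => simp [sval, invW]
  | cons x w ih =>
    have h : invW (x :: w) = invW w ++ [(x.1, !x.2)] := by simp [invW]
    rw [h, sval_append, ih]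
    obtain ⟨a, b⟩ := x
    cases b <;> simp [sval, lval]

theorem sval_reduce (e : ℕ → E) (w : List (ℕ × Bool)) : sval e (reduce w) = sval e w := by
  induction w with
  | nil => rfl
  | cons x w ih =>
    have hc : sval e (x :: w) = lval e x * sval e w := by simp [sval]
    rw [show reduce (x :: w) = push x (reduce w) from rfl, hc, ← ih]
    generalize reduce w = l
    cases l with
    | nil => simp [push, sval]
    | cons y l =>
      obtain ⟨a, b⟩ := x
      obtain ⟨c, d⟩ := y
      simp only [push]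
      split
      · rename_i h
        simp only [Bool.and_eq_true, beq_iff_eq, bne_iff_ne] at h
        obtain ⟨rfl, hbd⟩ := h
        cases b <;> cases d <;> simp_all [sval, lval]
      · simp [sval]

/-- the value of a term -/
def termE (e : ℕ → E) (t : Bool × List ℕ × ℕ) : E :=
  evE e t.2.1 * (if t.1 then (tail e t.2.2)⁻¹ else tail e t.2.2) * (evE e t.2.1)⁻¹

theorem sval_termW (e : ℕ → E) (t : Bool × List ℕ × ℕ) : sval e (termW t) = termE e t := by
  obtain ⟨s, p, r⟩ := t
  cases s <;>
    simp only [termW, termE, tail, if_true, Bool.false_eq_true, if_false, sval_invW, sval_append,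
      sval_pos] <;> group

theorem sval_flatMap (e : ℕ → E) :
    ∀ l : List (Bool × List ℕ × ℕ), sval e (l.flatMap termW) = (l.map (termE e)).prod := by
  intro l
  induction l with
  | nil => simp [sval]
  | cons t l ih => rw [List.flatMap_cons, sval_append, ih, sval_termW, List.map_cons, List.prod_cons]

theorem val_prod : ∀ {l : List E}, (∀ x ∈ l, x ∈ N) →
    val N ψ l.prod = (l.map (val N ψ)).sum := by
  intro l
  induction l with
  | nil => intro _; simpa using val_one
  | cons a l ih =>
    intro h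
    simp only [List.mem_cons, forall_eq_or_imp] at h
    rw [List.prod_cons, val_mul h.1 (list_prod_mem h.2), ih h.2, List.map_cons, List.sum_cons]

include H in
/-- Every equation holds for the tails of any lifts. -/
theorem eq_zero {e : ℕ → E} (he : Lifts φ e) {q : ℕ × ℕ} (hq : q ∈ eqns) :
    comb2 (11 * rels.length) (xs N ψ e) (eqRow q) = 0 := by
  have h1 := eqns_ok
  simp only [eqnsOK, List.all_eq_true, Bool.and_eq_true, decide_eq_true_eq] at h1
  obtain ⟨⟨hI, hi⟩, hinv⟩ := h1 q hq
  set I := idents.getD q.1 [] with hIdef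
  have hmem : I ∈ idents := by
    rw [hIdef, List.getD_eq_getElem _ _ hI]; exact List.getElem_mem hI
  have h2 := idents_ok
  simp only [identsOK, List.all_eq_true, Bool.and_eq_true, decide_eq_true_eq,
    List.isEmpty_iff] at h2
  obtain ⟨hred, hb⟩ := h2 I hmem
  have hN : ∀ t ∈ I, termE e t ∈ N := by
    intro t ht
    refine ‹N.Normal›.conj_mem _ ?_ _
    split
    · exact inv_mem (tail_mem he (hb t ht).1)
    · exact tail_mem he (hb t ht).1
  have hprod : (I.map (termE e)).prod = 1 := by
    rw [← sval_flatMap, ← sval_reduce, hred]; rfl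
  have hz := congrArg (fun x => val N ψ x (pt (pivot q.2))) hprod
  simp only [val_one, Pi.zero_apply] at hz
  rw [val_prod (by
    intro x hx
    obtain ⟨t, ht, rfl⟩ := List.mem_map.1 hx
    exact hN t ht), List.map_map, Pi.list_sum_apply, List.map_map] at hz
  rw [eqRow, comb2_xorL]
  refine Eq.trans (congrArg List.sum (List.map_congr_left fun t ht => ?_)) hz
  obtain ⟨hr, hp⟩ := hb t ht
  have hp' := pivot_lt hi
  have hok := hinv t ht
  show _ = val N ψ (termE e t) (pt (pivot q.2))
  have hmid : (if t.1 then (tail e t.2.2)⁻¹ else tail e t.2.2) ∈ N := by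
    split
    · exact inv_mem (tail_mem he hr)
    · exact tail_mem he hr
  rw [termE, val_conj_at H _ hmid (evP_ok hp).1 (sig_evE he hp) (by omega) hok]
  have hv : val N ψ (if t.1 then (tail e t.2.2)⁻¹ else tail e t.2.2) = val N ψ (tail e t.2.2) := by
    split
    · exact val_inv (tail_mem he hr)
    · rfl
  rw [hv, termRow]
  simp only [invOK, Bool.and_eq_true, decide_eq_true_eq] at hok
  exact comb2_colS (val_inM H (tail_mem he hr)) _ (by omega) hok.1
    (fun j hj => xs_at e t.2.2 hj)

include H in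
/-- The value of the difference made in a word by a change of lifts. -/
theorem val_dRow {e : ℕ → E} (he : Lifts φ e) {b : ℕ → E} (hb : ∀ k, b k ∈ N) (hb7 : ∀ k, 7 ≤ k → b k = 1)
    (c : ℕ → ZMod 2) (hc : ∀ k < 7, ∀ j < 11, c (11 * k + j) = val N ψ (b k) (pt (pivot j))) :
    ∀ (w : List ℕ) (q : ℕ), (∀ k ∈ w, k < perms.length) → q < 24 → dOK q w = true →
      evE (fun k => b k * e k) w * (evE e w)⁻¹ ∈ N ∧
        val N ψ (evE (fun k => b k * e k) w * (evE e w)⁻¹) (pt q) = comb2 77 c (dRow q w) := by
  intro w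
  induction w with
  | nil => intro q _ _ _; simp [evE, dRow, comb2_zero, val_one]
  | cons k w ih =>
    intro q hw hq hok
    simp only [List.mem_cons, forall_eq_or_imp] at hw
    simp only [dOK, Bool.and_eq_true, decide_eq_true_eq] at hok
    obtain ⟨⟨-, hinv⟩, hrest⟩ := hok
    have hinv' := hinv
    simp only [invOK, Bool.and_eq_true, decide_eq_true_eq] at hinv'
    obtain ⟨hD, hval⟩ := ih (invAt (prm k) q) hw.2 hinv'.1 hrest
    set D := evE (fun k => b k * e k) w * (evE e w)⁻¹ with hDdef
    have heq : evE (fun k => b k * e k) (k :: w) * (evE e (k :: w))⁻¹ =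
        b k * (e k * D * (e k)⁻¹) := by
      simp only [hDdef, evE, List.map_cons, List.prod_cons]; group
    rw [heq]
    have hcn := ‹N.Normal›.conj_mem D hD (e k)
    refine ⟨mul_mem (hb k) hcn, ?_⟩
    rw [val_mul (hb k) hcn, Pi.add_apply,
      val_conj_at H (e k) hD (prm_ok hw.1).1 (he k hw.1) hq hinv, hval]
    simp only [dRow, comb2_xor]
    rw [add_left_inj]
    by_cases hk : k < 7
    · rw [if_pos hk, comb2_colS (val_inM H (hb k)) c (by omega) hq (fun j hj => hc k hk j hj)]
    · rw [if_neg hk, hb7 k (not_lt.1 hk), val_one, comb2_zero]; rfl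

include H in
/-- Lifts with all the tails of the pc relations trivial. -/
theorem exists_lifts : ∃ e : ℕ → E, Lifts φ e ∧ ∀ r < 28, tail e r = 1 := by
  classical
  have hex : ∀ k, ∃ x : E, k < perms.length → sig N φ x = toPerm (prm k) := by
    intro k
    by_cases hk : k < perms.length
    · obtain ⟨x, hx⟩ := (φ.toMonoidHom.comp (QuotientGroup.mk' N)).range_eq_top.1
        (MonoidHom.range_eq_top.2 (φ.surjective.comp (QuotientGroup.mk'_surjective N)))
        ⟨toPerm (prm k), (prm_ok hk).2⟩
      exact ⟨x, fun _ => congrArg Subtype.val hx⟩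
    · exact ⟨1, fun h => absurd h hk⟩
  choose e₀ he₀ using hex
  have he : Lifts φ e₀ := he₀
  set V := 11 * rels.length with hV
  let c : ℕ → ZMod 2 := fun y => comb2 V (xs N ψ e₀) (shiftRows.getD y 0)
  have hbex : ∀ k, ∃ x ∈ N, (7 ≤ k → x = 1) ∧
      (k < 7 → ∀ j < 11, val N ψ x (pt (pivot j)) = c (11 * k + j)) := by
    intro k
    by_cases hk : k < 7
    · obtain ⟨x, hx, hxc⟩ := exists_val H fun j => c (11 * k + j)
      exact ⟨x, hx, fun h => absurd h (not_le.2 hk), fun _ => hxc⟩
    · exact ⟨1, N.one_mem, fun _ => rfl, fun h => absurd h hk⟩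
  choose b hb hb7 hbc using hbex
  have he' : Lifts φ (fun k => b k * e₀ k) := fun k hk => by
    rw [map_mul, sig_eq_one.2 (hb k), one_mul, he k hk]
  refine ⟨_, he', ?_⟩
  have h := shift_ok
  simp only [shiftOK, Bool.and_eq_true, List.all_eq_true, List.mem_range, decide_eq_true_eq,
    beq_iff_eq, Bool.or_eq_true, Bool.not_eq_true'] at h
  obtain ⟨⟨hd, hlen⟩, hmask⟩ := h
  have hrl : ∀ r < 28, r < rels.length := fun r hr => lt_of_lt_of_le hr rels_length
  have hpiv : ∀ v, pivMask.testBit v = true → xs N ψ (fun k => b k * e₀ k) v = 0 := by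
    intro v hv
    have hv308 : v < 308 := by
      by_contra hge
      rw [Nat.testBit_lt_two_pow (lt_of_lt_of_le hmask
        (Nat.pow_le_pow_right (by norm_num) (not_lt.1 hge)))] at hv
      exact Bool.noConfusion hv
    obtain ⟨r, i, hr, hi, rfl⟩ : ∃ r i, r < 28 ∧ i < 11 ∧ v = 11 * r + i :=
      ⟨v / 11, v % 11, by omega, by omega, by omega⟩
    obtain ⟨⟨hd1, hd2⟩, hsel⟩ := hd r hr i hi
    have hsel' := hsel.resolve_left (by rw [hv]; exact Bool.noConfusion)
    obtain ⟨⟨hl, hr'⟩, -⟩ := rel_ok (hrl r hr)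
    have hp : pivot i < 24 := by have := pivot_lt hi; omega
    obtain ⟨hA, hAv⟩ := val_dRow H he hb hb7 c
      (fun k hk j hj => (hbc k hk j hj).symm) _ _ hl hp hd1
    obtain ⟨hB, hBv⟩ := val_dRow H he hb hb7 c
      (fun k hk j hj => (hbc k hk j hj).symm) _ _ hr' hp hd2
    rw [xs_at _ r hi]
    have ht := tail_mem he (hrl r hr)
    set A := evE (fun k => b k * e₀ k) (relAt r).1 * (evE e₀ (relAt r).1)⁻¹
    set B := evE (fun k => b k * e₀ k) (relAt r).2 * (evE e₀ (relAt r).2)⁻¹
    have heq : tail (fun k => b k * e₀ k) r = A * (tail e₀ r * B⁻¹) := by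
      simp only [tail, A, B]; group
    rw [heq, val_mul hA (mul_mem ht (inv_mem hB)), val_mul ht (inv_mem hB), val_inv hB,
      Pi.add_apply, Pi.add_apply, hAv, hBv]
    have hcomb : comb2 77 c (dRow (pivot i) (relAt r).1) + comb2 77 c (dRow (pivot i) (relAt r).2) =
        val N ψ (tail e₀ r) (pt (pivot i)) := by
      rw [← comb2_xor, ← xs_at e₀ r hi,
        ← comb2_two_pow (V := V) (xs N ψ e₀) (by have := rels_length; omega), ← hsel',
        comb2_selL, hlen]
    rw [add_left_comm, hcomb, zmod2_add_self]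
  have hall : ∀ v < 308, xs N ψ (fun k => b k * e₀ k) v = 0 := by
    intro v hv
    have hc := certs_ok
    simp only [certsOK, List.all_eq_true, List.mem_range, Bool.or_eq_true, beq_iff_eq] at hc
    rcases hc v hv with hp | hp
    · exact hpiv v hp
    set z := selL eqRows (certs.getD v 0) ^^^ 2 ^ v with hz
    have h1 : comb2 V (xs N ψ fun k => b k * e₀ k) (selL eqRows (certs.getD v 0)) = 0 := by
      rw [comb2_selL]
      refine Finset.sum_eq_zero fun i hi => ?_
      have hi' := Finset.mem_range.1 hi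
      have hmem : eqRows.getD i 0 ∈ eqRows := by
        rw [List.getD_eq_getElem _ _ hi']; exact List.getElem_mem hi'
      obtain ⟨q, hq, hqe⟩ := List.mem_map.1 hmem
      split
      · show comb2 V _ (eqRows.getD i 0) = 0
        rw [← hqe]
        exact eq_zero H he' hq
      · rfl
    have h2 : comb2 V (xs N ψ fun k => b k * e₀ k) z = 0 := by
      refine Finset.sum_eq_zero fun u _ => ?_
      by_cases hu : z.testBit u
      · rw [if_pos hu]
        refine hpiv u ?_
        have h3 := congrArg (fun m => Nat.testBit m u) hp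
        simp only [Nat.testBit_and, hu, Bool.true_and] at h3
        exact h3
      · rw [if_neg hu]
    rw [hz, comb2_xor, h1, zero_add, comb2_two_pow _ (by have := rels_length; omega)] at h2
    exact h2
  intro r hr
  have ht := tail_mem he' (hrl r hr)
  refine val_eq_zero H ht (eq_zero_of_pivots (val_inM H ht) fun j hj => ?_)
  rw [← xs_at _ r hj]
  exact hall _ (by omega)

end Ext

/-! ### The complement -/

section Main

variable {E : Type*} [Group E] [Finite E]

/-- the subgroup generated by the last lifts -/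
def sub (e : ℕ → E) (d : ℕ) : Subgroup E := Subgroup.closure {x | ∃ k, d ≤ k ∧ k < 7 ∧ x = e k}

theorem evE_mem {e : ℕ → E} {d : ℕ} {w : List ℕ} (h : ∀ k ∈ w, d ≤ k ∧ k < 7) :
    evE e w ∈ sub e d := by
  refine list_prod_mem fun x hx => ?_
  obtain ⟨k, hk, rfl⟩ := List.mem_map.1 hx
  exact Subgroup.subset_closure ⟨k, (h k hk).1, (h k hk).2, rfl⟩

theorem ncard_sub_le {e : ℕ → E} (ht : ∀ r < 28, tail e r = 1) :
    ∀ n ≤ 7, Nat.card (sub e (7 - n)) ≤ 2 ^ n := by
  intro n
  induction n with
  | zero =>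
    intro _
    have h : sub e 7 = ⊥ := by
      rw [sub, Subgroup.closure_eq_bot_iff]
      rintro x ⟨k, h1, h2, -⟩
      omega
    rw [h, Subgroup.card_bot]; simp
  | succ n ih =>
    intro hn
    set i := 7 - (n + 1) with hi
    have hi7 : i < 7 := by omega
    have hsucc : 7 - n = i + 1 := by omega
    specialize ih (by omega)
    rw [hsucc] at ih
    have hsh := shape_ok
    simp only [shapeOK, Bool.and_eq_true, List.all_eq_true, List.mem_range, Bool.or_eq_true,
      decide_eq_true_eq, List.any_eq_true, beq_iff_eq] at hsh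
    set A := sub e (i + 1) with hA
    have hrule : ∀ j, i ≤ j → j < 7 →
        (j = i ∧ e i * e i ∈ A) ∨ (i < j ∧ (e i)⁻¹ * e j * e i ∈ A) := by
      intro j hij hj
      rcases (hsh.2 i hi7 j hj) with h | ⟨r, hr, h1, h2⟩
      · omega
      have hrel : e j * e i = evE e (relAt r).2 := by
        have h3 := mul_inv_eq_one.1 (ht r hr)
        rw [h1] at h3
        simpa [evE] using h3
      by_cases hji : j = i
      · subst hji
        simp only [if_true, List.all_eq_true, decide_eq_true_eq] at h2
        exact Or.inl ⟨rfl, hrel ▸ evE_mem (fun k hk => ⟨(h2 k hk).1, (h2 k hk).2⟩)⟩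
      · simp only [hji, if_false, Bool.and_eq_true, beq_iff_eq, List.all_eq_true,
          decide_eq_true_eq] at h2
        refine Or.inr ⟨by omega, ?_⟩
        rcases hw : (relAt r).2 with _ | ⟨a, w⟩
        · rw [hw] at h2; simp at h2; omega
        · rw [hw] at h2 hrel
          simp only [List.headD_cons, List.tail_cons] at h2
          obtain ⟨ha, h4⟩ := h2
          subst ha
          rw [mul_assoc, hrel,
            show evE e (i :: w) = e i * evE e w by simp [evE], inv_mul_cancel_left]
          exact evE_mem (fun k hk => ⟨(h4 k hk).1, (h4 k hk).2⟩)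
    have hsq : e i * e i ∈ A := by
      rcases hrule i le_rfl hi7 with h | h
      · exact h.2
      · omega
    have hnorm : ∀ x ∈ A, (e i)⁻¹ * x * e i ∈ A := by
      intro x hx
      rw [hA, sub] at hx
      induction hx using Subgroup.closure_induction with
      | mem y hy =>
        obtain ⟨k, h1, h2, rfl⟩ := hy
        rcases hrule k (by omega) h2 with h | h
        · omega
        · exact h.2
      | one => simp
      | mul y z _ _ hy hz =>
        rw [show (e i)⁻¹ * (y * z) * e i = ((e i)⁻¹ * y * e i) * ((e i)⁻¹ * z * e i) by group]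
        exact mul_mem hy hz
      | inv y _ hy =>
        rw [show (e i)⁻¹ * y⁻¹ * e i = ((e i)⁻¹ * y * e i)⁻¹ by group]
        exact inv_mem hy
    have hsubset : (sub e i : Set E) ⊆ (A : Set E) ∪ (fun a => e i * a) '' (A : Set E) := by
      intro x hx
      rw [SetLike.mem_coe, sub] at hx
      induction hx using Subgroup.closure_induction with
      | mem y hy =>
        obtain ⟨k, h1, h2, rfl⟩ := hy
        rcases eq_or_lt_of_le h1 with rfl | h
        · exact Or.inr ⟨1, A.one_mem, mul_one _⟩
        · exact Or.inl (Subgroup.subset_closure ⟨k, h, h2, rfl⟩)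
      | one => exact Or.inl A.one_mem
      | mul y z _ _ hy hz =>
        rcases hy with hy | ⟨a, ha, rfl⟩ <;> rcases hz with hz | ⟨c, hc, rfl⟩
        · exact Or.inl (mul_mem hy hz)
        · exact Or.inr ⟨(e i)⁻¹ * y * e i * c, mul_mem (hnorm y hy) hc, by group⟩
        · exact Or.inr ⟨a * z, mul_mem ha hz, (mul_assoc _ _ _).symm⟩
        · refine Or.inl ?_
          show e i * a * (e i * c) ∈ A
          rw [show e i * a * (e i * c) = e i * e i * ((e i)⁻¹ * a * e i) * c by group]
          exact mul_mem (mul_mem hsq (hnorm a ha)) hc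
      | inv y _ hy =>
        rcases hy with hy | ⟨a, ha, rfl⟩
        · exact Or.inl (inv_mem hy)
        · refine Or.inr ⟨(e i * e i)⁻¹ * ((e i * e i) * ((e i)⁻¹ * a⁻¹ * e i) * (e i * e i)⁻¹),
            mul_mem (inv_mem hsq) (mul_mem (mul_mem hsq (hnorm _ (inv_mem ha))) (inv_mem hsq)),
            by group⟩
    calc Nat.card (sub e i) = (sub e i : Set E).ncard := (Nat.card_coe_set_eq _)
      _ ≤ ((A : Set E) ∪ (fun a => e i * a) '' (A : Set E)).ncard :=
          Set.ncard_le_ncard hsubset (Set.toFinite _)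
      _ ≤ (A : Set E).ncard + ((fun a => e i * a) '' (A : Set E)).ncard := Set.ncard_union_le _ _
      _ ≤ (A : Set E).ncard + (A : Set E).ncard :=
          Nat.add_le_add_left (Set.ncard_image_le (Set.toFinite _)) _
      _ ≤ 2 ^ (n + 1) := by
          rw [← Nat.card_coe_set_eq, pow_succ]
          simp only [SetLike.coe_sort_coe]
          omega

/-- The extension splits. -/
theorem exists_complement (N : Subgroup E) [N.Normal] (φ : E ⧸ N ≃* ↥Spor.M23)
    (ψ : Additive ↥N →+ (GolayPt → ZMod 2)) (H : Hyp N φ ψ) :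
    ∃ K : Subgroup E, K ⊓ N = ⊥ ∧ K ⊔ N = ⊤ := by
  classical
  obtain ⟨e, he, ht⟩ := exists_lifts H
  obtain ⟨hpc, hlen⟩ := pcsOK
  set A := sub e 0 with hA
  have hcard : Nat.card A ≤ 128 := by simpa using ncard_sub_le ht 7 le_rfl
  have hgen : ∀ k < 7, sig N φ (e k) = toPerm (pcs.getD k idP) := fun k hk => by
    rw [← prm_pcs hk]; exact he k (lt_of_lt_of_le hk length_le)
  have himg : A.map (sig N φ) = HS pcs := by
    rw [hA, sub, MonoidHom.map_closure, HS]
    congr 1
    ext σ
    constructor
    · rintro ⟨x, ⟨k, -, hk, rfl⟩, rfl⟩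
      refine ⟨pcs.getD k idP, ?_, hgen k hk⟩
      rw [List.getD_eq_getElem _ _ (hlen ▸ hk)]; exact List.getElem_mem _
    · rintro ⟨P, hP, rfl⟩
      obtain ⟨k, hk, rfl⟩ := List.getElem_of_mem hP
      refine ⟨e k, ⟨k, Nat.zero_le _, hlen ▸ hk, rfl⟩, ?_⟩
      rw [hgen k (hlen ▸ hk), List.getD_eq_getElem _ _ hk]
  have hinj : A ⊓ N = ⊥ := by
    have h1 : Nat.card (A.map (sig N φ)) = 128 := by rw [himg, card_HS hpc, hlen]; norm_num
    let f : A →* A.map (sig N φ) := (sig N φ).subgroupMap A
    have hf : Function.Surjective f := MonoidHom.subgroupMap_surjective _ A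
    have hbij : Function.Bijective f :=
      ⟨(hf.bijective_of_nat_card_le (by omega)).1, hf⟩
    refine (Subgroup.eq_bot_iff_forall _).2 fun x hx => ?_
    obtain ⟨hxA, hxN⟩ := Subgroup.mem_inf.1 hx
    have h2 : f ⟨x, hxA⟩ = f 1 := Subtype.ext (by
      show sig N φ x = sig N φ ((1 : A) : E)
      rw [sig_eq_one.2 hxN, OneMemClass.coe_one, map_one])
    exact congrArg Subtype.val (hbij.1 h2)
  set U := (HS pcs).comap (sig N φ) with hU
  have hNU : N ≤ U := fun x hx => by
    rw [hU, Subgroup.mem_comap, sig_eq_one.2 hx]; exact one_mem _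
  have hKA : N ⊔ A = U := by
    refine le_antisymm (sup_le hNU ?_) fun u hu => ?_
    · rw [hU, ← himg]; exact Subgroup.le_comap_map _ _
    · rw [hU, Subgroup.mem_comap, ← himg] at hu
      obtain ⟨a, ha, hau⟩ := hu
      rw [show u = u * a⁻¹ * a by group]
      refine mul_mem (Subgroup.mem_sup_left ?_) (Subgroup.mem_sup_right ha)
      rw [← sig_eq_one (φ := φ), map_mul, map_inv, hau, mul_inv_cancel]
  have hle : HS pcs ≤ Spor.M23 := by
    rw [← himg]
    rintro _ ⟨a, -, rfl⟩
    exact (φ (QuotientGroup.mk a)).2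
  have hindex : U.index = 79695 := by
    have h1 : U = ((HS pcs).subgroupOf Spor.M23).comap (φ.toMonoidHom.comp (QuotientGroup.mk' N)) := rfl
    rw [h1, Subgroup.index_comap_of_surjective _
      (φ.surjective.comp (QuotientGroup.mk'_surjective N))]
    have h2 : Nat.card Spor.M23 = 10200960 := by
      have : Spor.M23 = fixH M24 F23 := by
        ext h
        rw [mem_fix23_iff, Spor.M23, Subgroup.mem_inf, MulAction.mem_stabilizer_iff, pt23]
        rfl
      rw [this]; exact natCard_fix23
    have h3 := Subgroup.index_mul_card ((HS pcs).subgroupOf Spor.M23)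
    rw [Nat.card_congr (Subgroup.subgroupOfEquivOfLe hle).toEquiv, card_HS hpc, hlen, h2] at h3
    norm_num at h3
    omega
  have hcop : (Nat.card N).Coprime U.index := by
    rw [hindex]
    have h1 : Nat.card N ∣ 2 ^ 24 := by
      have h2 := AddSubgroup.card_addSubgroup_dvd_card ψ.range
      rw [← Nat.card_congr (AddMonoidHom.ofInjective H.inj).toEquiv] at h2
      have h3 : Nat.card (GolayPt → ZMod 2) = 2 ^ 24 := by
        rw [Nat.card_fun, Nat.card_zmod, Nat.card_eq_fintype_card]
        simp [GolayPt, Fintype.card_option, ZMod.card]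
      rw [h3, Nat.card_congr Additive.toMul] at h2
      exact h2
    exact Nat.Coprime.coprime_dvd_left h1 (by norm_num)
  haveI : IsMulCommutative N := ⟨⟨fun a b => by
    apply Additive.ofMul.injective
    apply H.inj
    rw [ofMul_mul, ofMul_mul, map_add, map_add, add_comm]⟩⟩
  obtain ⟨K, hK⟩ := CfsgLib.Gaschutz.exists_complement hNU hcop hinj hKA
  exact ⟨K, by rw [inf_comm]; exact hK.disjoint.eq_bot, by rw [sup_comm]; exact hK.sup_eq_top⟩

end Main

end CfsgLib.Golay.CodeSplit
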