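import Cfsg.Agent.Lib.Golay.SylowTwoCert
import Cfsg.Agent.Lib.Golay.CodeSplit.Data

/-!
The computable checks on the data of the splitting certificate.
-/

set_option autoImplicit false

namespace CfsgLib.Golay.CodeSplit

open CfsgLib.Golay CfsgLib.Golay.SylowTwo

/-- all permutations named by letters -/
def perms : List ℕ := pcs ++ extra

/-- the permutation named by a letter -/
def prm (k : ℕ) : ℕ := perms.getD k idP

/-- the permutation of a word -/
def evP : List ℕ → ℕ
  | [] => idP
  | k :: w => mulP (prm k) (evP w)

/-- exclusive or over a list -/
def xorL {α : Type} (f : α → ℕ) : List α → ℕ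
  | [] => 0
  | a :: l => f a ^^^ xorL f l

/-- the position of a preimage -/
def invAt (P q : ℕ) : ℕ := ((List.range 24).find? fun k => ap P k == q).getD 0

/-- the preimage is found -/
def invOK (P q : ℕ) : Bool := decide (invAt P q < 24) && ap P (invAt P q) == q

/-- the `i`-th pivot -/
def pivot (i : ℕ) : ℕ := pivs.getD i 0

/-- the value at `k` in block `r` as a combination of pivot values -/
def colS (k r : ℕ) : ℕ :=
  xorL (fun j => if (basisM.getD j 0).testBit k then 2 ^ (11 * r + j) else 0) (List.range 11)

/-- the relation with a number -/
def relAt (r : ℕ) : List ℕ × List ℕ := rels.getD r ([], [])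

/-- the row of a term of an identity -/
def termRow (i : ℕ) (t : Bool × List ℕ × ℕ) : ℕ := colS (invAt (evP t.2.1) (pivot i)) t.2.2

/-- the row of an equation -/
def eqRow (e : ℕ × ℕ) : ℕ := xorL (termRow e.2) (idents.getD e.1 [])

/-- the selected part of a list -/
def selL (l : List ℕ) (m : ℕ) : ℕ :=
  xorL (fun i => if m.testBit i then l.getD i 0 else 0) (List.range l.length)

/-- the change of the value at `q` of a word under a change of lifts -/
def dRow : ℕ → List ℕ → ℕ
  | _, [] => 0
  | q, k :: w => (if k < 7 then colS q k else 0) ^^^ dRow (invAt (prm k) q) w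

/-- the preimages used by `dRow` are found -/
def dOK : ℕ → List ℕ → Bool
  | _, [] => true
  | q, k :: w => decide (q < 24) && invOK (prm k) q && dOK (invAt (prm k) q) w

/-- signed letters of a positive word -/
def pos (w : List ℕ) : List (ℕ × Bool) := w.map fun k => (k, false)

/-- the inverse of a signed word -/
def invW (w : List (ℕ × Bool)) : List (ℕ × Bool) := (w.map fun x => (x.1, !x.2)).reverse

/-- the word of a term -/
def termW (t : Bool × List ℕ × ℕ) : List (ℕ × Bool) :=
  let c := pos t.2.1 ++ pos (relAt t.2.2).1 ++ invW (pos (relAt t.2.2).2) ++ invW (pos t.2.1)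
  if t.1 then invW c else c

/-- prepend a letter, cancelling -/
def push (x : ℕ × Bool) : List (ℕ × Bool) → List (ℕ × Bool)
  | [] => [x]
  | y :: l => if x.1 == y.1 && x.2 != y.2 then l else x :: y :: l

/-- free reduction -/
def reduce (w : List (ℕ × Bool)) : List (ℕ × Bool) := w.foldr push []

/-- the rows of all equations -/
def eqRows : List ℕ := eqns.map eqRow

/-- check of the module basis -/
def basisOK : Bool :=
  (List.range 11).all (fun i => decide (pivot i < 23) &&
    (List.range 11).all fun j => (basisM.getD j 0).testBit (pivot i) == (i == j)) &&
  basisM.all (fun b => inC b && !b.testBit 23) &&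
  codeList.all fun m => m.testBit 23 ||
    xorL (fun j => if m.testBit (pivot j) then basisM.getD j 0 else 0) (List.range 11) == m

/-- check of the permutations -/
def permsOK : Bool :=
  pcOK pcs pcc && pcs.length == 7 && perms.all fun P => inM24 P && ap P 23 == 23

/-- check of the relations -/
def relsOK : Bool :=
  rels.all fun r => r.1.all (fun k => decide (k < perms.length)) &&
    r.2.all (fun k => decide (k < perms.length)) && eqP (evP r.1) (evP r.2)

/-- check of the shapes of the pc relations -/
def shapeOK : Bool :=
  decide (28 ≤ rels.length) && (List.range 7).all fun i => (List.range 7).all fun j =>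
    j < i || (List.range 28).any fun r =>
      (relAt r).1 == [j, i] &&
        if j == i then (relAt r).2.all (fun k => decide (i < k ∧ k < 7))
        else (relAt r).2.headD 99 == i && (relAt r).2.tail.all (fun k => decide (i < k ∧ k < 7))

/-- check of the identities -/
def identsOK : Bool :=
  idents.all fun I =>
    (reduce (I.flatMap termW)).isEmpty && I.all fun t =>
      decide (t.2.2 < rels.length) && t.2.1.all (fun k => decide (k < perms.length))

/-- check that the preimages of the equations are found -/
def eqnsOK : Bool :=
  eqns.all fun e => decide (e.1 < idents.length) && decide (e.2 < 11) &&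
    (idents.getD e.1 []).all fun t => invOK (evP t.2.1) (pivot e.2)

/-- check of the normalisation -/
def shiftOK : Bool :=
  (List.range 28).all (fun r => (List.range 11).all fun i =>
    dOK (pivot i) (relAt r).1 && dOK (pivot i) (relAt r).2 &&
      (!(pivMask.testBit (11 * r + i)) ||
        selL shiftRows (dRow (pivot i) (relAt r).1 ^^^ dRow (pivot i) (relAt r).2) == 2 ^ (11 * r + i)))
    && shiftRows.length == 77 && decide (pivMask < 2 ^ 308)

/-- check of the certificates -/
def certsOK : Bool :=
  (List.range 308).all fun v => pivMask.testBit v ||
    (selL eqRows (certs.getD v 0) ^^^ 2 ^ v) &&& pivMask ==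
      (selL eqRows (certs.getD v 0) ^^^ 2 ^ v)

theorem basis_ok : basisOK = true := by decide +kernel

theorem perms_ok : permsOK = true := by decide +kernel

theorem rels_ok : relsOK = true := by decide +kernel

theorem shape_ok : shapeOK = true := by decide +kernel

theorem idents_ok : identsOK = true := by decide +kernel

theorem eqns_ok : eqnsOK = true := by decide +kernel

theorem shift_ok : shiftOK = true := by decide +kernel

theorem certs_ok : certsOK = true := by decide +kernel

end CfsgLib.Golay.CodeSplit
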